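import Mathlib
import Groth.Agent.GrpSchLib.RationalSmooth

/-! The cotangent space at a rational point of an affine scheme `k[T]/(F)`. -/

set_option autoImplicit false
universe u

noncomputable section

namespace Groth.Agent.TangRankLib

variable {k : Type u} [Field k] {n r : ℕ}

theorem snd_aeval (a w : Fin n → k) (f : MvPolynomial (Fin n) k) :
    TrivSqZeroExt.fst (MvPolynomial.aeval (fun j => (TrivSqZeroExt.inl (a j) + TrivSqZeroExt.inr (w j) : DualNumber k)) f)
        = MvPolynomial.eval a f ∧
      TrivSqZeroExt.snd (MvPolynomial.aeval (fun j => (TrivSqZeroExt.inl (a j) + TrivSqZeroExt.inr (w j) : DualNumber k)) f)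
        = ∑ j, w j * MvPolynomial.eval a (MvPolynomial.pderiv j f) := by
  induction f using MvPolynomial.induction_on with
  | C c =>
    rw [MvPolynomial.aeval_C, TrivSqZeroExt.algebraMap_eq_inl']
    simp
  | add p q hp hq =>
    simp only [map_add, TrivSqZeroExt.fst_add, TrivSqZeroExt.snd_add, hp.1, hp.2, hq.1, hq.2,
      mul_add, Finset.sum_add_distrib, and_self]
  | mul_X p i hp =>
    have h : ∀ j, w j * MvPolynomial.eval a (MvPolynomial.pderiv j (p * MvPolynomial.X i)) =
        (w j * MvPolynomial.eval a (MvPolynomial.pderiv j p)) * a i +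
          (if i = j then MvPolynomial.eval a p * w j else 0) := by
      intro j
      by_cases hij : i = j
      · subst hij
        rw [MvPolynomial.pderiv_mul, MvPolynomial.pderiv_X_self, if_pos rfl]
        simp only [map_add, map_mul, MvPolynomial.eval_X, map_one]
        ring
      · rw [MvPolynomial.pderiv_mul, MvPolynomial.pderiv_X_of_ne (Ne.symm (Ne.symm hij)), if_neg hij]
        simp only [map_add, map_mul, MvPolynomial.eval_X, map_zero]
        ring
    simp only [map_mul, MvPolynomial.aeval_X, MvPolynomial.eval_X, TrivSqZeroExt.fst_mul,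
      TrivSqZeroExt.snd_mul, hp.1, hp.2, TrivSqZeroExt.fst_add, TrivSqZeroExt.snd_add,
      TrivSqZeroExt.fst_inl, TrivSqZeroExt.fst_inr, TrivSqZeroExt.snd_inl, TrivSqZeroExt.snd_inr,
      add_zero, zero_add, smul_eq_mul, MulOpposite.smul_eq_mul_unop, MulOpposite.unop_op, true_and]
    simp only [← map_mul, h, Finset.sum_add_distrib, ← Finset.sum_mul, Finset.sum_ite_eq,
      Finset.mem_univ, if_true]
    ring

/-- The dimension of the cotangent space plus the rank of the Jacobian is `n`. -/
theorem finrank_cotangent_add_rank (F : Fin r → MvPolynomial (Fin n) k) (a : Fin n → k)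
    (𝔪 : Ideal (MvPolynomial (Fin n) k ⧸ Ideal.span (Set.range F))) [𝔪.IsMaximal]
    (h𝔪 : 𝔪.comap (Ideal.Quotient.mk (Ideal.span (Set.range F))) = RingHom.ker (MvPolynomial.eval a))
    (O : Type u) [CommRing O] [IsLocalRing O] [Algebra k O]
    [Algebra (MvPolynomial (Fin n) k ⧸ Ideal.span (Set.range F)) O]
    [IsScalarTower k (MvPolynomial (Fin n) k ⧸ Ideal.span (Set.range F)) O]
    [IsLocalization.AtPrime O 𝔪] :
    Module.finrank (IsLocalRing.ResidueField O) (IsLocalRing.CotangentSpace O) +
      (Matrix.of fun i j => MvPolynomial.eval a (MvPolynomial.pderiv j (F i))).rank = n := by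
  classical
  let P := MvPolynomial (Fin n) k
  let B := P ⧸ Ideal.span (Set.range F)
  let κ := IsLocalRing.ResidueField O
  let π : P →ₐ[k] O := (IsScalarTower.toAlgHom k B O).comp (Ideal.Quotient.mkₐ k _)
  have hπm : ∀ f : P, π f ∈ (IsLocalRing.maximalIdeal O) ↔ MvPolynomial.eval a f = 0 := by
    intro f
    change algebraMap B O (Ideal.Quotient.mk _ f) ∈ (IsLocalRing.maximalIdeal O) ↔ _
    rw [IsLocalization.AtPrime.to_map_mem_maximal_iff O 𝔪, ← Ideal.mem_comap, h𝔪]
    rfl
  have hFa : ∀ i, MvPolynomial.eval a (F i) = 0 := fun i => by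
    have : F i ∈ 𝔪.comap (Ideal.Quotient.mk (Ideal.span (Set.range F))) := by
      rw [Ideal.mem_comap, Ideal.Quotient.eq_zero_iff_mem.2 (Ideal.subset_span (Set.mem_range_self i))]
      exact zero_mem _
    rwa [h𝔪] at this
  have hres : Function.Surjective (algebraMap k κ) := by
    intro y
    obtain ⟨z, rfl⟩ := IsLocalRing.residue_surjective y
    obtain ⟨⟨b, s⟩, hbs⟩ := IsLocalization.surj 𝔪.primeCompl z
    obtain ⟨f, rfl⟩ := Ideal.Quotient.mk_surjective b
    obtain ⟨g, hg⟩ := Ideal.Quotient.mk_surjective s.1
    have hev : ∀ f : P, IsLocalRing.residue O (π f) = algebraMap k κ (MvPolynomial.eval a f) := by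
      intro f
      have h1 : π (f - MvPolynomial.C (MvPolynomial.eval a f)) ∈ (IsLocalRing.maximalIdeal O) := by
        rw [hπm]; simp
      rw [map_sub, ← IsLocalRing.residue_eq_zero_iff, map_sub, sub_eq_zero] at h1
      rw [h1, IsScalarTower.algebraMap_apply k O κ, ← MvPolynomial.algebraMap_eq, AlgHom.commutes]
      rfl
    refine ⟨MvPolynomial.eval a f / MvPolynomial.eval a g, ?_⟩
    have hne : MvPolynomial.eval a g ≠ 0 := by
      intro h0
      have : g ∈ 𝔪.comap (Ideal.Quotient.mk (Ideal.span (Set.range F))) := by rw [h𝔪]; exact h0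
      rw [Ideal.mem_comap, hg] at this
      exact s.2 this
    have h2 : IsLocalRing.residue O z * IsLocalRing.residue O (π g) = IsLocalRing.residue O (π f) := by
      rw [← map_mul]
      congr 1
      change z * algebraMap B O (Ideal.Quotient.mk _ g) = _
      rw [hg]
      exact hbs
    rw [hev, hev] at h2
    rw [map_div₀, div_eq_iff ((map_ne_zero_iff _ (algebraMap k κ).injective).2 hne), h2]
  obtain ⟨δ, hδ⟩ := GrpSchLib.RationalSmooth.exists_residue_derivation (k := k) (R := O) hres
  let t : Fin n → (IsLocalRing.CotangentSpace O) := fun j => δ (π (MvPolynomial.X j))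
  have hDf : ∀ f : P, δ (π f) = ∑ j, MvPolynomial.eval a (MvPolynomial.pderiv j f) • t j := by
    have hscal : ∀ (g : P) (v : (IsLocalRing.CotangentSpace O)), π g • v = MvPolynomial.eval a g • v := by
      intro g v
      have h1 : π (g - MvPolynomial.C (MvPolynomial.eval a g)) ∈ (IsLocalRing.maximalIdeal O) := by rw [hπm]; simp
      rw [map_sub, ← MvPolynomial.algebraMap_eq, AlgHom.commutes] at h1
      have h2 : (π g - algebraMap k O (MvPolynomial.eval a g)) • v = 0 := by
        obtain ⟨x, rfl⟩ := Ideal.toCotangent_surjective (IsLocalRing.maximalIdeal O) v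
        rw [← map_smul, Ideal.toCotangent_eq_zero, pow_two]
        exact Ideal.mul_mem_mul h1 x.2
      rwa [sub_smul, algebraMap_smul, sub_eq_zero] at h2
    intro f
    induction f using MvPolynomial.induction_on with
    | C c =>
      rw [← MvPolynomial.algebraMap_eq, AlgHom.commutes, Derivation.map_algebraMap]
      simp
    | add p q hp hq => simp only [map_add, hp, hq, add_smul, Finset.sum_add_distrib]
    | mul_X p i hp =>
      rw [map_mul, Derivation.leibniz, hscal, hscal, hp]
      simp only [MvPolynomial.pderiv_mul, map_add, map_mul, MvPolynomial.eval_X, add_smul,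
        Finset.sum_add_distrib, Finset.smul_sum, smul_smul]
      rw [add_comm]
      congr 1
      · exact Finset.sum_congr rfl fun j _ => by rw [mul_comm]
      · rw [Finset.sum_eq_single i]
        · simp [t, MvPolynomial.pderiv_X]
        · intro j _ hj
          simp [MvPolynomial.pderiv_X, Pi.single_eq_of_ne hj.symm]
        · simp
  let Φ : (Fin n → k) →ₗ[k] (IsLocalRing.CotangentSpace O) := Fintype.linearCombination k t
  have hΦ : ∀ v, Φ v = ∑ j, v j • t j := fun v => rfl
  have hΦs : Function.Surjective Φ := by
    intro z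
    obtain ⟨⟨x, hx⟩, rfl⟩ := Ideal.toCotangent_surjective (IsLocalRing.maximalIdeal O) z
    obtain ⟨⟨b, s⟩, hbs⟩ := IsLocalization.surj 𝔪.primeCompl x
    obtain ⟨f, rfl⟩ := Ideal.Quotient.mk_surjective b
    obtain ⟨g, hg⟩ := Ideal.Quotient.mk_surjective s.1
    have hne : MvPolynomial.eval a g ≠ 0 := by
      intro h0
      have : g ∈ 𝔪.comap (Ideal.Quotient.mk (Ideal.span (Set.range F))) := by rw [h𝔪]; exact h0
      rw [Ideal.mem_comap, hg] at this
      exact s.2 this
    have hbs' : x * π g = π f := by
      change x * algebraMap B O (Ideal.Quotient.mk _ g) = _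
      rw [hg]
      exact hbs
    refine ⟨(MvPolynomial.eval a g)⁻¹ • fun j => MvPolynomial.eval a (MvPolynomial.pderiv j f), ?_⟩
    rw [map_smul, hΦ, ← hDf, ← hbs', Derivation.leibniz, hδ x hx]
    have hscal : ∀ v : (IsLocalRing.CotangentSpace O), π g • v = MvPolynomial.eval a g • v := by
      intro v
      have h1 : π (g - MvPolynomial.C (MvPolynomial.eval a g)) ∈ (IsLocalRing.maximalIdeal O) := by rw [hπm]; simp
      rw [map_sub, ← MvPolynomial.algebraMap_eq, AlgHom.commutes] at h1
      have h2 : (π g - algebraMap k O (MvPolynomial.eval a g)) • v = 0 := by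
        obtain ⟨y, rfl⟩ := Ideal.toCotangent_surjective (IsLocalRing.maximalIdeal O) v
        rw [← map_smul, Ideal.toCotangent_eq_zero, pow_two]
        exact Ideal.mul_mem_mul h1 y.2
      rwa [sub_smul, algebraMap_smul, sub_eq_zero] at h2
    have hx0 : x • δ (π g) = 0 := by
      obtain ⟨y, hy⟩ := Ideal.toCotangent_surjective (IsLocalRing.maximalIdeal O) (δ (π g))
      rw [← hy, ← map_smul, Ideal.toCotangent_eq_zero, pow_two]
      exact Ideal.mul_mem_mul hx y.2
    rw [hscal, hx0, zero_add, smul_smul, inv_mul_cancel₀ hne, one_smul]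
  let M : Matrix (Fin r) (Fin n) k := Matrix.of fun i j => MvPolynomial.eval a (MvPolynomial.pderiv j (F i))
  let R := Submodule.span k (Set.range M.row)
  have hker : LinearMap.ker Φ = R := by
    apply le_antisymm
    · intro v hv
      by_contra hvR
      obtain ⟨φ, hφv, hφR⟩ := Submodule.exists_dual_map_eq_bot_of_notMem hvR inferInstance
      let w : Fin n → k := fun j => φ (Pi.single j 1)
      have hφ : ∀ u : Fin n → k, φ u = ∑ j, u j * w j := by
        intro u
        conv_lhs => rw [pi_eq_sum_univ' u]
        simp [map_sum, w]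
      let ψ0 : P →ₐ[k] DualNumber k :=
        MvPolynomial.aeval fun j => TrivSqZeroExt.inl (a j) + TrivSqZeroExt.inr (w j)
      have hF : ∀ f ∈ Ideal.span (Set.range F), ψ0 f = 0 := by
        intro f hf
        have hle : Ideal.span (Set.range F) ≤ RingHom.ker ψ0 := by
          rw [Ideal.span_le]
          rintro _ ⟨i, rfl⟩
          rw [SetLike.mem_coe, RingHom.mem_ker]
          ext
          · rw [(snd_aeval a w (F i)).1, hFa i]; simp
          · rw [(snd_aeval a w (F i)).2]
            simp only [TrivSqZeroExt.snd_zero]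
            have : φ (M.row i) = 0 := by
              have h1 : φ (M.row i) ∈ R.map φ := Submodule.mem_map_of_mem (Submodule.subset_span ⟨i, rfl⟩)
              rw [hφR] at h1
              exact h1
            rw [hφ] at this
            rw [← this]
            exact Finset.sum_congr rfl fun j _ => by simp [M, mul_comm]
        exact hle hf
      let ψ1 : B →ₐ[k] DualNumber k := Ideal.Quotient.liftₐ _ ψ0 hF
      have hunit : ∀ s : 𝔪.primeCompl, IsUnit (ψ1.toRingHom s.1) := by
        rintro ⟨s, hs⟩
        obtain ⟨g, rfl⟩ := Ideal.Quotient.mk_surjective s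
        rw [TrivSqZeroExt.isUnit_iff_isUnit_fst]
        change IsUnit (TrivSqZeroExt.fst (ψ0 g))
        rw [(snd_aeval a w g).1, isUnit_iff_ne_zero]
        intro h0
        apply hs
        have : g ∈ 𝔪.comap (Ideal.Quotient.mk (Ideal.span (Set.range F))) := by rw [h𝔪]; exact h0
        exact this
      let ψ : O →+* DualNumber k := IsLocalization.lift hunit
      have hψ : ∀ f : P, ψ (π f) = ψ0 f := fun f => IsLocalization.lift_eq hunit _
      have hfst : ∀ x ∈ (IsLocalRing.maximalIdeal O), TrivSqZeroExt.fst (ψ x) = 0 := by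
        intro x hx
        by_contra hne
        have hu : IsUnit (ψ x) := TrivSqZeroExt.isUnit_iff_isUnit_fst.2 (isUnit_iff_ne_zero.2 hne)
        obtain ⟨⟨b, s⟩, hbs⟩ := IsLocalization.surj 𝔪.primeCompl x
        obtain ⟨f, rfl⟩ := Ideal.Quotient.mk_surjective b
        have h1 : π f ∈ (IsLocalRing.maximalIdeal O) := by
          change algebraMap B O (Ideal.Quotient.mk _ f) ∈ (IsLocalRing.maximalIdeal O)
          rw [← hbs]
          exact (IsLocalRing.maximalIdeal O).mul_mem_right _ hx
        have h2 : TrivSqZeroExt.fst (ψ0 f) ≠ 0 := by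
          rw [← hψ, ← isUnit_iff_ne_zero, ← TrivSqZeroExt.isUnit_iff_isUnit_fst]
          change IsUnit (ψ (algebraMap B O (Ideal.Quotient.mk _ f)))
          rw [← hbs, map_mul]
          exact hu.mul ((IsLocalization.map_units O s).map ψ)
        exact h2 ((snd_aeval a w f).1.trans ((hπm f).1 h1))
      let e : Fin n → (IsLocalRing.maximalIdeal O) := fun j => ⟨π (MvPolynomial.X j - MvPolynomial.C (a j)), by rw [hπm]; simp⟩
      have ht : ∀ j, t j = (IsLocalRing.maximalIdeal O).toCotangent (e j) := by
        intro j
        rw [← hδ (e j).1 (e j).2]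
        have hC : π (MvPolynomial.C (a j)) = algebraMap k O (a j) := π.commutes (a j)
        simp [t, e, hC]
      let z : O := ∑ j, algebraMap k O (v j) * (e j).1
      have hz : z ∈ (IsLocalRing.maximalIdeal O) ^ 2 := by
        have h0 : Φ v = 0 := hv
        rw [hΦ] at h0
        simp only [ht] at h0
        simp only [← algebraMap_smul O (v _) ((IsLocalRing.maximalIdeal O).toCotangent _), ← map_smul, ← map_sum,
          Ideal.toCotangent_eq_zero] at h0
        simpa [z, Algebra.smul_def] using h0
      have hz0 : ψ z = 0 := by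
        rw [pow_two] at hz
        refine Submodule.mul_induction_on hz (fun x hx y hy => ?_) (fun x y hx hy => by rw [map_add, hx, hy, add_zero])
        rw [map_mul]
        ext
        · simp [hfst x hx]
        · simp [hfst x hx, hfst y hy]
      apply hφv
      rw [hφ]
      have hz1 : TrivSqZeroExt.snd (ψ z) = ∑ j, v j * w j := by
        have : z = π (∑ j, MvPolynomial.C (v j) * (MvPolynomial.X j - MvPolynomial.C (a j))) := by
          simp only [z, e, map_sum, map_mul]
          refine Finset.sum_congr rfl fun j _ => ?_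
          rw [← MvPolynomial.algebraMap_eq, AlgHom.commutes]
        rw [this, hψ, (snd_aeval a w _).2]
        refine Finset.sum_congr rfl fun j _ => ?_
        simp [MvPolynomial.pderiv_C_mul, MvPolynomial.pderiv_X, Pi.single_apply, apply_ite (MvPolynomial.eval a), mul_comm]
      rw [← hz1, hz0, TrivSqZeroExt.snd_zero]
    · rw [Submodule.span_le]
      rintro _ ⟨i, rfl⟩
      rw [SetLike.mem_coe, LinearMap.mem_ker, hΦ]
      have h1 : π (F i) = 0 := by
        change algebraMap B O (Ideal.Quotient.mk _ (F i)) = 0
        rw [Ideal.Quotient.eq_zero_iff_mem.2 (Ideal.subset_span (Set.mem_range_self i)), map_zero]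
      have h2 := hDf (F i)
      rw [h1, map_zero] at h2
      exact h2.symm
  have hsum := Φ.finrank_range_add_finrank_ker
  rw [LinearMap.range_eq_top.2 hΦs, finrank_top, hker, ← Matrix.rank_eq_finrank_span_row,
    Module.finrank_fin_fun] at hsum
  have hκ : Module.finrank k κ = 1 :=
    (LinearEquiv.ofBijective (Algebra.linearMap k κ) ⟨(algebraMap k κ).injective, hres⟩).finrank_eq.symm.trans
      (Module.finrank_self k)
  have : IsScalarTower k κ (IsLocalRing.CotangentSpace O) := IsScalarTower.of_algebraMap_smul fun c v => by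
    rw [IsScalarTower.algebraMap_apply k O κ, algebraMap_smul, algebraMap_smul]
  have htower := Module.finrank_mul_finrank k κ (IsLocalRing.CotangentSpace O)
  rw [hκ, one_mul] at htower
  rw [← htower] at hsum
  exact hsum

end Groth.Agent.TangRankLib
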